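import Groth.Agent.UDVanishLib.Basic
import Groth.Agent.ConstGenLib.Normal
import Groth.Agent.NormalFibLib.Basic
import Groth.Agent.S0654
import Groth.Agent.CdpLib.Reduce

/-!
# Rational constant sheaves on normal Noetherian schemes
-/

set_option autoImplicit false
set_option backward.isDefEq.respectTransparency false
set_option backward.isDefEq.respectTransparency.types false
set_option linter.style.haveILetI false
set_option maxHeartbeats 1000000
set_option synthInstance.maxHeartbeats 400000

universe u

open CategoryTheory CategoryTheory.Limits AlgebraicGeometry Opposite CategoryTheory.Abelian TopologicalSpace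

noncomputable section

namespace Groth.Agent.UDVanishLib

open EtPtsLib EtTraceLib EtClosedPts

theorem isUD_const (X : Scheme.{u}) : IsUD (EtCoh.const X ℚ) := fun n hn => by
  let M := AddCommGrpCat.of (ULift.{u + 1} ℚ)
  haveI : IsIso (n • 𝟙 M) := (ConcreteCategory.isIso_iff_bijective _).2 (by
    have hn' : (n : ℚ) ≠ 0 := by exact_mod_cast hn.ne'
    refine ⟨fun a b h => ULift.ext _ _ ?_, fun b => ⟨⟨(n : ℚ)⁻¹ * b.down⟩, ULift.ext _ _ ?_⟩⟩
    · have h' : n • a.down = n • b.down := congrArg ULift.down h
      rw [nsmul_eq_mul, nsmul_eq_mul] at h'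
      exact mul_left_cancel₀ hn' h'
    · show n • ((n : ℚ)⁻¹ * b.down) = b.down
      rw [nsmul_eq_mul, mul_inv_cancel_left₀ hn'])
  let C := constantSheaf X.smallEtaleTopology AddCommGrpCat.{u + 1}
  haveI : C.IsLeftAdjoint := (constantSheafAdj X.smallEtaleTopology AddCommGrpCat.{u + 1} (EtCore.topIsTerminal X)).isLeftAdjoint
  haveI : C.Additive := Functor.additive_of_preserves_binary_products _
  have e : C.map (n • 𝟙 M) = n • 𝟙 (EtCoh.const X ℚ) := by
    rw [Functor.map_nsmul, CategoryTheory.Functor.map_id]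
  rw [← e]
  infer_instance

theorem subsingleton_H_const_normal {X : Scheme.{u}} [AlgebraicGeometry.IsNoetherian X] (hX : Pi1.IsNormalScheme X)
    (q : ℕ) (hq : 0 < q) : Subsingleton (EtCoh.H X (EtCoh.const X ℚ) q) := by
  suffices key : ∀ (C : Closeds X) (W : Scheme.{u}) (c : W ⟶ X) [IsClosedImmersion c] [IsOpenImmersion c],
      Set.range c = (C : Set X) → Subsingleton (EtCoh.H W (EtCoh.const W ℚ) q) from
    key ⊤ X (𝟙 X) (by simp)
  intro C
  induction C using WellFoundedLT.induction with
  | ind C ih =>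
    intro W c _ _ hr
    haveI : IsLocallyNoetherian W := LocallyOfFiniteType.isLocallyNoetherian c
    haveI : CompactSpace W := c.isClosedEmbedding.compactSpace
    haveI : AlgebraicGeometry.IsNoetherian W := { }
    have hW : Pi1.IsNormalScheme W := fun w => by
      let e := (asIso (c.stalkMap w)).commRingCatIsoToRingEquiv
      haveI := (hX (c w)).1
      exact ⟨MulEquiv.isDomain (X.presheaf.stalk (c w)) e.symm.toMulEquiv,
        @IsIntegrallyClosed.of_equiv _ _ _ _ e (hX (c w)).2⟩
    rcases isEmpty_or_nonempty W with he | he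
    · exact subsingleton_of_isZero' (CdpLib.isZero_of_isEmpty _) q
    by_cases hc : ConnectedSpace W
    · haveI := NormalFibLib.isIntegral_of_connected W hW
      haveI : IsIso (ptUnit (genericPoint W) (EtCoh.const W ℚ)) :=
        ConstGenLib.isIso_unit _ _ (ConstGenLib.connAlong_fromSpecResidueField hW)
      haveI : (EtCoh.pull (W.fromSpecResidueField (genericPoint W))).IsLeftAdjoint := (EtCoh.pullPushAdj _).isLeftAdjoint
      haveI : (EtCoh.pull (W.fromSpecResidueField (genericPoint W))).Additive := Functor.additive_of_preserves_binary_products _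
      exact EtClosedPts.subsingleton_H_of_iso (asIso (ptUnit (genericPoint W) (EtCoh.const W ℚ))) q
        (subsingleton_H_push_point (genericPoint W) ((isUD_const W).map (EtCoh.pull _)) q hq)
    obtain ⟨V, hV, hVe, hVu⟩ : ∃ V : Set W, IsClopen V ∧ V ≠ ∅ ∧ V ≠ Set.univ := by
      by_contra hh
      push_neg at hh
      refine hc (connectedSpace_iff_clopen.2 ⟨he, fun V hV => ?_⟩)
      by_cases hVe : V = ∅
      · exact Or.inl hVe
      · exact Or.inr (hh V hV (Set.nonempty_iff_ne_empty.2 hVe))
    let B : W.Opens := ⟨V, hV.2⟩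
    let D : W.Opens := ⟨Vᶜ, hV.1.isOpen_compl⟩
    haveI : IsClosedImmersion B.ι := IsClosedImmersion.of_isPreimmersion _ (by
      rw [Scheme.Opens.range_ι]; exact hV.1)
    haveI : IsClosedImmersion D.ι := IsClosedImmersion.of_isPreimmersion _ (by
      rw [Scheme.Opens.range_ι]; exact hV.compl.1)
    haveI := EtJCont.jCont B.ι
    have hBD : (B : Set W) = (Set.range D.ι.base)ᶜ := by
      rw [show Set.range D.ι.base = Vᶜ from Scheme.Opens.range_ι D, compl_compl]
      rfl
    have piece : ∀ (E : W.Opens) [IsClosedImmersion E.ι] (z : W), z ∉ E →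
        Subsingleton (EtCoh.H W ((EtCoh.push E.ι).obj ((EtCoh.pull E.ι).obj (EtCoh.const W ℚ))) q) := by
      intro E _ z hz
      have hlt : (⟨Set.range (E.ι ≫ c), (E.ι ≫ c).isClosedEmbedding.isClosed_range⟩ : Closeds X) < C := by
        refine lt_of_le_of_ne (fun x hx => ?_) fun he => ?_
        · obtain ⟨y, rfl⟩ := hx
          exact hr.le ⟨E.ι y, rfl⟩
        · have : c z ∈ Set.range (E.ι ≫ c) := by
            show c z ∈ ((⟨Set.range (E.ι ≫ c), (E.ι ≫ c).isClosedEmbedding.isClosed_range⟩ : Closeds X) : Set X)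
            rw [he, ← hr]
            exact ⟨z, rfl⟩
          obtain ⟨y, hy⟩ := this
          exact hz (c.isClosedEmbedding.injective hy ▸ y.2)
      haveI := ih _ hlt _ (E.ι ≫ c) rfl
      obtain ⟨eq⟩ := EtVanish.nonempty_H_push_equiv E.ι ((EtCoh.pull E.ι).obj (EtCoh.const W ℚ)) q
      haveI := EtClosedPts.subsingleton_H_of_iso (EtCore.pullConst E.ι ℚ) q inferInstance
      exact eq.toEquiv.subsingleton
    obtain ⟨w, hS⟩ := S0654.result D.ι B hBD (EtCoh.const W ℚ)
    refine CdpLib.shortExact_middle hS q ?_ ?_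
    · obtain ⟨z, hz⟩ := (Set.ne_univ_iff_exists_notMem V).1 hVu
      exact EtClosedPts.subsingleton_H_of_iso ((EtTraceLib.extZeroPushIso B.ι).app _ ≪≫
        (EtCoh.push B.ι).mapIso ((EtPtsLib.pullIsoRestr B.ι).symm.app _)) q (piece B z hz)
    · obtain ⟨z, hz⟩ := Set.nonempty_iff_ne_empty.2 hVe
      exact piece D z (fun h' => h' hz)

end Groth.Agent.UDVanishLib
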