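import Groth.Agent.EtClosedPts.Vanish
import Groth.Agent.EtVanish.Henselian
import Groth.Agent.CohColim.EtQC
import Groth.Agent.FLCLib.Colim
import Groth.Agent.CdpLib.DimDense
import Groth.Agent.CurveNoeth.Basic

/-!
# Uniquely divisible sheaves on Noetherian schemes
-/

set_option autoImplicit false
set_option backward.isDefEq.respectTransparency false
set_option backward.isDefEq.respectTransparency.types false
set_option linter.style.haveILetI false
set_option maxHeartbeats 1000000
set_option synthInstance.maxHeartbeats 400000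

universe u

open CategoryTheory CategoryTheory.Limits AlgebraicGeometry Opposite CategoryTheory.Abelian TopologicalSpace

noncomputable section

namespace Groth.Agent.UDVanishLib

open EtPtsLib EtTraceLib EtClosedPts
open Groth.Agent.FLCLib (stalkPullIso)

variable {X : Scheme.{u}}

/-- Every positive integer acts invertibly. -/
def IsUD (F : EtCoh.Ab X) : Prop := ∀ n : ℕ, 0 < n → IsIso (n • 𝟙 F)

theorem IsUD.map {Y : Scheme.{u}} (Φ : EtCoh.Ab X ⥤ EtCoh.Ab Y) [Φ.Additive] {F : EtCoh.Ab X} (h : IsUD F) :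
    IsUD (Φ.obj F) := fun n hn => by
  haveI := h n hn
  have e : Φ.map (n • 𝟙 F) = n • 𝟙 (Φ.obj F) := by rw [Functor.map_nsmul, CategoryTheory.Functor.map_id]
  rw [← e]
  infer_instance

theorem IsUD.kernel {F G : EtCoh.Ab X} (φ : F ⟶ G) (hF : IsUD F) (hG : IsUD G) : IsUD (kernel φ) := fun n hn => by
  haveI := hF n hn
  haveI := hG n hn
  have w : φ ≫ (asIso (n • 𝟙 G)).hom = (asIso (n • 𝟙 F)).hom ≫ φ := by
    show φ ≫ (n • 𝟙 G) = (n • 𝟙 F) ≫ φ
    rw [Preadditive.comp_nsmul, Preadditive.nsmul_comp, Category.comp_id, Category.id_comp]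
  have e : (kernel.mapIso φ φ (asIso (n • 𝟙 F)) (asIso (n • 𝟙 G)) w).hom = n • 𝟙 (Limits.kernel φ) := by
    rw [← cancel_mono (kernel.ι φ)]
    show kernel.map φ φ _ _ w ≫ kernel.ι φ = _
    rw [kernel.lift_ι, Preadditive.nsmul_comp, Category.id_comp]
    show kernel.ι φ ≫ (n • 𝟙 F) = _
    rw [Preadditive.comp_nsmul, Category.comp_id]
  rw [← e]
  infer_instance

theorem IsUD.cokernel {F G : EtCoh.Ab X} (φ : F ⟶ G) (hF : IsUD F) (hG : IsUD G) : IsUD (cokernel φ) := fun n hn => by
  haveI := hF n hn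
  haveI := hG n hn
  have w : φ ≫ (asIso (n • 𝟙 G)).hom = (asIso (n • 𝟙 F)).hom ≫ φ := by
    show φ ≫ (n • 𝟙 G) = (n • 𝟙 F) ≫ φ
    rw [Preadditive.comp_nsmul, Preadditive.nsmul_comp, Category.comp_id, Category.id_comp]
  have e : (cokernel.mapIso φ φ (asIso (n • 𝟙 F)) (asIso (n • 𝟙 G)) w).hom = n • 𝟙 (Limits.cokernel φ) := by
    rw [← cancel_epi (cokernel.π φ)]
    show cokernel.π φ ≫ cokernel.map φ φ _ _ w = _
    rw [cokernel.π_desc, Preadditive.comp_nsmul, Category.comp_id]
    show (n • 𝟙 G) ≫ cokernel.π φ = _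
    rw [Preadditive.nsmul_comp, Category.id_comp]
  rw [← e]
  infer_instance

theorem isUD_of_bijective (F : EtCoh.Ab X)
    (hF : ∀ (U : X.Etale) (m : ℕ), 0 < m → Function.Bijective (fun s : EtCoh.sect F U => m • s)) : IsUD F :=
  fun n hn => by
    haveI : ∀ U : X.Etaleᵒᵖ, IsIso ((n • 𝟙 F : F ⟶ F).hom.app U) := fun U =>
      (ConcreteCategory.isIso_iff_bijective _).2 (hF U.unop n hn)
    haveI : IsIso (n • 𝟙 F : F ⟶ F).hom := NatIso.isIso_of_isIso_app _
    haveI : IsIso ((sheafToPresheaf X.smallEtaleTopology AddCommGrpCat.{u + 1}).map (n • 𝟙 F : F ⟶ F)) :=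
      ‹IsIso (n • 𝟙 F : F ⟶ F).hom›
    exact isIso_of_fully_faithful (sheafToPresheaf X.smallEtaleTopology AddCommGrpCat.{u + 1}) _

/-- A point without proper generalisations. -/
def IsMax (x : X) : Prop := ∀ w : X, w ⤳ x → w = x

/-- The stalks at the maximal points vanish. -/
def IsGenZero (F : EtCoh.Ab X) : Prop :=
  ∀ (Ω : Type u) [Field Ω] [IsSepClosed Ω] (ξ : Spec (CommRingCat.of Ω) ⟶ X),
    IsMax (ξ default) → IsZero ((EtCoh.stalk ξ).obj F)

section Push

variable [CompactSpace X] [QuasiSeparatedSpace X]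

/-- Direct images from points of uniquely divisible sheaves have no higher cohomology. -/
theorem subsingleton_H_push_point (y : X) {G : EtCoh.Ab (Spec (X.residueField y))} (hG : IsUD G) (q : ℕ) (hq : 0 < q) :
    Subsingleton (EtCoh.H X ((EtCoh.push (X.fromSpecResidueField y)).obj G) q) := by
  have hA : FieldAcyclic (X.residueField y : Type u) G := fun L _ _ _ _ r x => by
    haveI : (EtShriek.restrAlong (specπ (X.residueField y : Type u) L)).Additive := by
      haveI := (preservesFiniteLimits_restr (k := (X.residueField y : Type u)) L).1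
      exact Functor.additive_of_preserves_binary_products _
    exact eq_zero_of_uniquely_divisible L _ (hG.map (EtShriek.restrAlong (specπ (X.residueField y : Type u) L)))
      (r + 1) r.succ_pos x
  exact subsingleton_of_forall_eq 0 fun e => H_push_eq_zero (k := (X.residueField y : Type u))
    (X.fromSpecResidueField y) hA q (fun x => eq_zero_of_uniquely_divisible (X.residueField y : Type u) _ hG q hq x) e

end Push

section Parts

variable (F : EtCoh.Ab X) (O : X.Opens)

/-- The sections supported off an open. -/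
def offPart : EtCoh.Ab X := kernel ((EtCoh.pullPushAdj O.ι).unit.app F)

/-- Its inclusion. -/
def offι : offPart F O ⟶ F := kernel.ι ((EtCoh.pullPushAdj O.ι).unit.app F)

instance : Mono (offι F O) := inferInstanceAs (Mono (kernel.ι _))

theorem isZero_stalk_offPart {Ω : Type u} [Field Ω] [IsSepClosed Ω] (ξ : Spec (CommRingCat.of Ω) ⟶ X)
    (h : ξ default ∈ O) : IsZero ((EtCoh.stalk ξ).obj (offPart F O)) := by
  obtain ⟨ζ, rfl⟩ := exists_comp_eq O.ι ξ (by rw [Scheme.Opens.range_ι]; exact h)
  exact (isZero_stalk_kernel_cokernel ((EtCoh.pullPushAdj O.ι).unit.app F) (ζ ≫ O.ι)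
    (isIso_stalk_unit_immersion O.ι ζ F)).1

theorem offι_unit {O' : X.Opens} (h : O' ≤ O) : offι F O ≫ (EtCoh.pullPushAdj O'.ι).unit.app F = 0 := by
  haveI := EtJCont.jCont O'.ι
  have hz : IsZero ((EtCoh.pull O'.ι).obj (offPart F O)) := (isZero_iff_ab _).2 fun Ω _ _ ζ =>
    (isZero_stalk_offPart F O (ζ ≫ O'.ι) (by rw [Scheme.Hom.comp_apply]; exact h (ζ default).2)).of_iso
      ((stalkPullIso O'.ι ζ).app (offPart F O))
  haveI : (EtCoh.push O'.ι).IsRightAdjoint := (EtCoh.pullPushAdj O'.ι).isRightAdjoint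
  haveI : (EtCoh.push O'.ι).Additive := Functor.additive_of_preserves_binary_products _
  refine ((EtCoh.pullPushAdj O'.ι).unit.naturality (offι F O)).trans ?_
  rw [((EtCoh.push O'.ι).map_isZero hz).eq_of_tgt ((EtCoh.pullPushAdj O'.ι).unit.app (offPart F O)) 0]
  exact zero_comp

theorem offι_eq {U : X.Etale} (s : EtCoh.sect F U) (hs : ∀ z ∈ EtShriek.sectSupp F U s, U.hom z ∉ O) :
    ((EtCoh.pullPushAdj O.ι).unit.app F).hom.app (op U) s = 0 := by
  let j := O.ι
  let V : U.left.Opens := ⟨(EtShriek.sectSupp F U s)ᶜ, (isClosed_sectSupp F U s).isOpen_compl⟩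
  let h := restrι U V
  have h0 : F.obj.map h.op s = 0 := by
    refine sect_eq_zero_of_locally F _ fun v => ?_
    have hv : (V.ι v) ∉ EtShriek.sectSupp F U s := v.2
    have hv' : v ∉ EtShriek.sectSupp F (restr U V) (F.obj.map h.op s) := by
      rw [ShriekLib.sectSupp_map]
      exact hv
    simp only [EtShriek.sectSupp, Set.mem_ofPred_eq, not_forall, ne_eq, not_not] at hv'
    obtain ⟨W, g, hw, hg⟩ := hv'
    exact ⟨W, g, hw, hg⟩
  refine sect_eq_zero_of_locally ((EtCoh.pull j).obj F) (U := (EtCoh.bc j).obj U) _ fun z => ?_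
  let p : ((EtCoh.bc j).obj U).left ⟶ U.left := pullback.fst U.hom j
  have h1 : U.hom (p z) = j ((pullback.snd U.hom j : ((EtCoh.bc j).obj U).left ⟶ _) z) :=
    (Scheme.Hom.comp_apply _ _ z).symm.trans
      ((congrArg (fun q => q z) (pullback.condition (f := U.hom) (g := j))).trans (Scheme.Hom.comp_apply _ _ z))
  have hz : p z ∈ V := fun hmem =>
    hs _ hmem (h1 ▸ ((pullback.snd U.hom j : ((EtCoh.bc j).obj U).left ⟶ _) z).2)
  refine ⟨(EtCoh.bc j).obj (restr U V), (EtCoh.bc j).map h, ?_, ?_⟩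
  · obtain ⟨w, hw⟩ : ∃ w : (restr U V).left, V.ι w = p z := ⟨⟨p z, hz⟩, rfl⟩
    haveI : IsOpenImmersion p := inferInstanceAs (IsOpenImmersion (pullback.fst U.hom j))
    have hw' : (restr U V).hom w = j ((pullback.snd U.hom j : ((EtCoh.bc j).obj U).left ⟶ _) z) :=
      ((Scheme.Hom.comp_apply V.ι U.hom w).trans (congrArg U.hom hw)).trans h1
    obtain ⟨v, hv, -⟩ := Scheme.Pullback.exists_preimage_pullback (f := (restr U V).hom) (g := j) w _ hw'
    refine ⟨v, p.isOpenEmbedding.injective ?_⟩
    refine (Scheme.Hom.comp_apply _ _ v).symm.trans ?_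
    refine (congrArg (fun q => q v) (EtPtsLib.bcFst_map j h)).trans ?_
    refine (Scheme.Hom.comp_apply _ _ v).trans ?_
    exact (congrArg h.left hv).trans hw
  · refine Eq.trans (NatTrans.naturality_apply ((EtCoh.pullPushAdj j).unit.app F).hom h.op s).symm ?_
    exact (congrArg _ h0).trans (map_zero _)

end Parts

/-- A closed subset of a Noetherian sober space is covered by the closures of finitely many of its points. -/
theorem exists_finite_closure {α : Type u} [TopologicalSpace α] [NoetherianSpace α] [QuasiSober α] {S : Set α}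
    (hS : IsClosed S) : ∃ G : Set α, G.Finite ∧ G ⊆ S ∧ ∀ s ∈ S, ∃ g ∈ G, g ⤳ s := by
  haveI : QuasiSober S := hS.isClosedEmbedding_subtypeVal.quasiSober
  haveI : NoetherianSpace S := Topology.IsEmbedding.subtypeVal.isInducing.noetherianSpace
  have hgen : ∀ Z : irreducibleComponents S, ∃ g : S, IsGenericPoint g (Z.1) := fun Z =>
    QuasiSober.sober Z.2.1 (isClosed_of_mem_irreducibleComponents Z.1 Z.2)
  choose g hg using hgen
  haveI := (NoetherianSpace.finite_irreducibleComponents (α := S)).to_subtype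
  refine ⟨Set.range fun Z => (g Z : α), Set.finite_range _, fun _ ⟨Z, hZ⟩ => hZ ▸ (g Z).2, fun s hs => ?_⟩
  let Z : irreducibleComponents S := ⟨_, irreducibleComponent_mem_irreducibleComponents ⟨s, hs⟩⟩
  exact ⟨g Z, ⟨Z, rfl⟩, ((hg Z).specializes mem_irreducibleComponent).map continuous_subtype_val⟩

section Colim

variable [IsNoetherian X] (F : EtCoh.Ab X)

/-- The closed set attached to finitely many points. -/
def coverSet (T : Finset (ULift.{u + 1} {x : X // ¬ IsMax x})) : Closeds X :=
  ⟨⋃ x ∈ T, closure {x.down.1}, isClosed_biUnion_finset fun _ _ => isClosed_closure⟩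

/-- Its complement. -/
def coverOpen (T : Finset (ULift.{u + 1} {x : X // ¬ IsMax x})) : X.Opens :=
  ⟨(coverSet T : Set X)ᶜ, (coverSet T).2.isOpen_compl⟩

theorem coverOpen_anti {T T' : Finset (ULift.{u + 1} {x : X // ¬ IsMax x})} (h : T ≤ T') : coverOpen T' ≤ coverOpen T :=
  fun _ hx hx' => hx (Set.biUnion_subset_biUnion_left (fun _ ha => h ha) hx')

/-- The system of parts supported in smaller dimension. -/
def offDiag : Finset (ULift.{u + 1} {x : X // ¬ IsMax x}) ⥤ EtCoh.Ab X where
  obj T := offPart F (coverOpen T)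
  map {T T'} h := kernel.lift _ (offι F (coverOpen T)) (offι_unit F _ (coverOpen_anti (leOfHom h)))
  map_id T := by
    rw [← cancel_mono (offι F (coverOpen T))]
    exact (kernel.lift_ι _ _ _).trans (Category.id_comp _).symm
  map_comp {T T' T''} h h' := by
    rw [← cancel_mono (offι F (coverOpen T'')), Category.assoc]
    refine (kernel.lift_ι _ _ _).trans ?_
    refine Eq.trans ?_ (congrArg (_ ≫ ·) (kernel.lift_ι _ _ _).symm)
    exact (kernel.lift_ι _ _ _).symm

/-- The inclusions of the parts. -/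
def offCocone : Cocone (offDiag F) where
  pt := F
  ι := { app := fun T => offι F (coverOpen T)
         naturality := fun _ _ _ => (kernel.lift_ι _ _ _).trans (Category.comp_id _).symm }

/-- The sum of the parts exhausts a sheaf vanishing at the maximal points. -/
theorem exists_part (hF : IsGenZero F) {Ω : Type u} [Field Ω] [IsSepClosed Ω] (ξ : Spec (CommRingCat.of Ω) ⟶ X)
    (b : (EtCoh.stalk ξ).obj F) :
    ∃ (T : Finset (ULift.{u + 1} {x : X // ¬ IsMax x})) (a : (EtCoh.stalk ξ).obj (offPart F (coverOpen T))),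
      (EtCoh.stalk ξ).map (offι F (coverOpen T)) a = b := by
  classical
  obtain ⟨U, l, s, rfl⟩ := (Scheme.pointSmallEtale ξ).toPresheafFiber_jointly_surjective b
  haveI : AlgebraicGeometry.Etale U.hom := U.prop
  haveI : IsLocallyNoetherian U.left := @LocallyOfFiniteType.isLocallyNoetherian U.left X U.hom inferInstance inferInstance
  obtain ⟨W, hW, huW, -⟩ := exists_isAffineOpen_mem_and_subset (x := liftHom ξ l default) (U := (⊤ : U.left.Opens)) trivial
  haveI : IsAffine W.toScheme := hW
  haveI : IsLocallyNoetherian W.toScheme := LocallyOfFiniteType.isLocallyNoetherian W.ι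
  haveI : AlgebraicGeometry.IsNoetherian W.toScheme := { }
  let S : Set W.toScheme := W.ι ⁻¹' EtShriek.sectSupp F U s
  obtain ⟨G, hGf, hGS, hG⟩ := exists_finite_closure ((isClosed_sectSupp F U s).preimage W.ι.continuous : IsClosed S)
  have hsupp : ∀ g ∈ S, ¬ IsMax (U.hom (W.ι g)) := fun g hg hmax => by
    have hmem : U.hom (W.ι g) ∈ EtPBC.supp F := by
      rw [supp_eq_iUnion]
      exact Set.mem_iUnion₂.2 ⟨U, s, W.ι g, hg, rfl⟩
    obtain ⟨Ω', _, _, ζ, hζ, hne⟩ := hmem
    exact hne (hF Ω' ζ ((Set.mem_singleton_iff.1 (hζ ▸ Set.mem_range_self _) : ζ default = _).symm ▸ hmax))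
  haveI := hGf.fintype
  let T : Finset (ULift.{u + 1} {x : X // ¬ IsMax x}) := Finset.univ.image fun g : G => ⟨⟨U.hom (W.ι g.1), hsupp _ (hGS g.2)⟩⟩
  refine ⟨T, ?_⟩
  let h := restrι U W
  obtain ⟨l', hl'⟩ := exists_fiber_map_eq ξ h l ⟨_, huW⟩ rfl
  have hker : ((EtCoh.pullPushAdj (coverOpen T).ι).unit.app F).hom.app (op (restr U W)) (F.obj.map h.op s) = 0 := by
    refine offι_eq F _ _ fun z hz hzO => hzO ?_
    rw [ShriekLib.sectSupp_map] at hz
    obtain ⟨g, hg, hgz⟩ := hG z hz
    refine Set.mem_biUnion (Finset.mem_image_of_mem _ (Finset.mem_univ (⟨g, hg⟩ : G))) ?_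
    exact specializes_iff_mem_closure.1 ((hgz.map W.ι.continuous).map U.hom.continuous)
  obtain ⟨c, hc⟩ := exists_kernel_sect ((EtCoh.pullPushAdj (coverOpen T).ι).unit.app F) (F.obj.map h.op s) hker
  refine ⟨germ ξ (offPart F (coverOpen T)) l' c, ?_⟩
  refine ((Scheme.pointSmallEtale ξ).toPresheafFiber_naturality_apply (offι F (coverOpen T)).hom (restr U W) l' c).trans ?_
  refine (congrArg (germ ξ F l') hc).trans ?_
  rw [← hl']
  exact (Scheme.pointSmallEtale ξ).toPresheafFiber_w_apply h l' F.obj s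

theorem isIso_desc (hF : IsGenZero F) : IsIso (colimit.desc (offDiag F) (offCocone F)) := by
  refine FLCLib.isIso_of_stalk _ fun Ω _ _ ξ => (ConcreteCategory.isIso_iff_bijective _).2
    ⟨(injective_iff_map_eq_zero _).2 fun e he => ?_, fun b => ?_⟩
  · obtain ⟨T, a, rfl⟩ := FLCLib.exists_stalk_rep (colimit.isColimit (offDiag F)) ξ e
    have h1 : (EtCoh.stalk ξ).map (offι F (coverOpen T)) a = 0 := by
      refine Eq.trans ?_ he
      refine Eq.trans ?_ (FLCLib.stalk_comp _ _ ξ a)
      exact congrArg (fun m => (EtCoh.stalk ξ).map m a) (colimit.ι_desc (offCocone F) T).symm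
    have ha : a = 0 := stalk_injective (offι F (coverOpen T)) ξ (h1.trans (map_zero _).symm)
    rw [ha, map_zero]
  · obtain ⟨T, a, ha⟩ := exists_part F hF ξ b
    refine ⟨(EtCoh.stalk ξ).map (colimit.ι (offDiag F) T) a, ?_⟩
    refine (FLCLib.stalk_comp _ _ ξ a).symm.trans ?_
    exact (congrArg (fun m => (EtCoh.stalk ξ).map m a) (colimit.ι_desc (offCocone F) T)).trans ha

theorem subsingleton_H_of_parts (hF : IsGenZero F) (q : ℕ)
    (h : ∀ T, Subsingleton (EtCoh.H X (offPart F (coverOpen T)) q)) : Subsingleton (EtCoh.H X F q) := by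
  haveI := isIso_desc F hF
  refine EtClosedPts.subsingleton_H_of_iso (asIso (colimit.desc (offDiag F) (offCocone F))).symm q ?_
  haveI := CohColim.preserves_HF (X := X) q (Finset (ULift.{u + 1} {x : X // ¬ IsMax x}))
  refine subsingleton_of_forall_eq 0 fun x => ?_
  obtain ⟨T, z, hz⟩ := Concrete.isColimit_exists_rep _
    (isColimitOfPreserves (EtCoh.HF X q) (colimit.isColimit (offDiag F))) x
  rw [← hz, (h T).elim z 0, map_zero]

end Colim

section Dim

theorem height_le {n : ℕ} (hn : topologicalKrullDim ↥X ≤ n) (x : X) : Order.height x ≤ (n : ℕ∞) := by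
  rw [← WithBot.coe_le_coe]
  exact (Order.height_le_krullDim x).trans ((DimLiftLib.topologicalKrullDim_eq ↥X).symm.trans_le hn)

theorem lt_of_specializes {w x : X} (h : w ⤳ x) (hne : w ≠ x) : x < w :=
  lt_of_le_not_ge (Scheme.le_iff_specializes.2 h) fun h' => hne (h.antisymm (Scheme.le_iff_specializes.1 h')).eq

theorem isMax_of_dim_zero (hn : topologicalKrullDim ↥X ≤ ((0 : ℕ) : WithBot ℕ∞)) (x : X) : IsMax x := fun w hw => by
  by_contra hne
  have h := (Order.height_add_one_le (lt_of_specializes hw hne)).trans (height_le hn w)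
  simp at h

theorem dim_cover [IsNoetherian X] {e : ℕ} (hn : topologicalKrullDim ↥X ≤ ((e + 1 : ℕ) : WithBot ℕ∞))
    {Z : Scheme.{u}} (i : Z ⟶ X) [IsClosedImmersion i] (T : Finset (ULift.{u + 1} {x : X // ¬ IsMax x}))
    (hr : Set.range i = (coverSet T : Set X)) : topologicalKrullDim ↥Z ≤ (e : WithBot ℕ∞) := by
  have key : ∀ z : Z, Order.height z + 1 ≤ ((e + 1 : ℕ) : ℕ∞) := fun z => by
    have hz : i z ∈ (coverSet T : Set X) := hr ▸ Set.mem_range_self z
    obtain ⟨x, -, hxz⟩ := Set.mem_iUnion₂.1 hz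
    have hxz' : x.down.1 ⤳ i z := specializes_iff_mem_closure.2 hxz
    obtain ⟨w, hw, hne⟩ : ∃ w : X, w ⤳ x.down.1 ∧ w ≠ x.down.1 := by
      have := x.down.2
      simp only [IsMax, not_forall] at this
      obtain ⟨w, hw, hne⟩ := this
      exact ⟨w, hw, hne⟩
    have hlt : i z < w := lt_of_le_of_lt (Scheme.le_iff_specializes.2 hxz') (lt_of_specializes hw hne)
    have hmono : StrictMono i := fun a b hab => lt_of_le_not_ge
      (Scheme.le_iff_specializes.2 ((Scheme.le_iff_specializes.1 hab.le).map i.continuous))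
      fun h => hab.not_ge (Scheme.le_iff_specializes.2
        (i.isClosedEmbedding.isInducing.specializes_iff.1 (Scheme.le_iff_specializes.1 h)))
    exact ((add_le_add_left (Order.height_le_height_apply_of_strictMono i hmono z) 1).trans
      (Order.height_add_one_le hlt)).trans (height_le hn w)
  rw [topologicalKrullDim, Order.krullDim_eq_of_orderIso (irreducibleSetEquivPoints (α := ↥Z)),
    Order.krullDim_eq_iSup_height]
  refine iSup_le fun y => WithBot.coe_le_coe.2 ?_
  exact (ENat.add_le_add_iff_right (ENat.one_ne_top)).1 (by simpa using key y)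

end Dim

theorem subsingleton_of_isZero' {F : EtCoh.Ab X} (h : IsZero F) (q : ℕ) : Subsingleton (EtCoh.H X F q) :=
  subsingleton_of_forall_eq 0 fun x => by
    rw [← Ext.comp_mk₀_id x, h.eq_of_src (𝟙 F) 0, Ext.mk₀_zero, Ext.comp_zero]

/-- The statement in dimension at most `d`. -/
def Vanish (d : ℕ) : Prop :=
  ∀ (X : Scheme.{u}) [IsNoetherian X], topologicalKrullDim ↥X ≤ (d : WithBot ℕ∞) →
    ∀ F : EtCoh.Ab X, IsUD F → ∀ q, d < q → Subsingleton (EtCoh.H X F q)

theorem subsingleton_H_genZero {d : ℕ} (ih : ∀ e, d = e + 1 → Vanish.{u} e) [IsNoetherian X]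
    (hn : topologicalKrullDim ↥X ≤ (d : WithBot ℕ∞)) (F : EtCoh.Ab X) (hUD : IsUD F) (hF : IsGenZero F) (m : ℕ)
    (hm : d ≤ m) : Subsingleton (EtCoh.H X F m) := by
  rcases d with _ | e
  · exact subsingleton_of_isZero' ((isZero_iff_ab F).2 fun Ω _ _ ξ => hF Ω ξ (isMax_of_dim_zero hn _)) m
  refine subsingleton_H_of_parts F hF m fun T => ?_
  let I := Scheme.IdealSheafData.vanishingIdeal (coverSet T)
  let i := I.subschemeι
  have hr : Set.range i = (coverSet T : Set X) := (Scheme.IdealSheafData.range_subschemeι _).trans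
    (Scheme.IdealSheafData.coe_support_vanishingIdeal (coverSet T))
  haveI : IsLocallyNoetherian I.subscheme := LocallyOfFiniteType.isLocallyNoetherian i
  haveI : CompactSpace I.subscheme := i.isClosedEmbedding.compactSpace
  haveI : AlgebraicGeometry.IsNoetherian I.subscheme := { }
  let P := offPart F (coverOpen T)
  haveI : IsIso ((EtCoh.pullPushAdj i).unit.app P) := by
    refine FLCLib.isIso_of_stalk _ fun Ω _ _ ξ => ?_
    by_cases h : ξ default ∈ Set.range i
    · obtain ⟨ζ, rfl⟩ := exists_comp_eq_closed i ξ h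
      exact isIso_stalk_unit_immersion i ζ P
    · exact isIso_of_source_target_iso_zero _
        (isZero_stalk_offPart F (coverOpen T) ξ (fun hx => h (hr.symm ▸ hx))).isoZero
        (isZero_stalk_push_ab i ξ i.isClosedEmbedding.isClosed_range h _).isoZero
  refine EtClosedPts.subsingleton_H_of_iso (asIso ((EtCoh.pullPushAdj i).unit.app P)) m ?_
  have hP : IsUD P := by
    haveI : (EtCoh.push (coverOpen T).ι).IsRightAdjoint := (EtCoh.pullPushAdj _).isRightAdjoint
    haveI : (EtCoh.pull (coverOpen T).ι).IsLeftAdjoint := (EtCoh.pullPushAdj _).isLeftAdjoint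
    haveI : (EtCoh.push (coverOpen T).ι).Additive := Functor.additive_of_preserves_binary_products _
    haveI : (EtCoh.pull (coverOpen T).ι).Additive := Functor.additive_of_preserves_binary_products _
    exact IsUD.kernel _ hUD (hUD.map (EtCoh.pull (coverOpen T).ι ⋙ EtCoh.push (coverOpen T).ι))
  haveI : (EtCoh.pull i).IsLeftAdjoint := (EtCoh.pullPushAdj i).isLeftAdjoint
  haveI : (EtCoh.pull i).Additive := Functor.additive_of_preserves_binary_products _
  haveI := ih e rfl I.subscheme (dim_cover hn i T hr) _ (hP.map (EtCoh.pull i)) m (by omega)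
  obtain ⟨eq⟩ := EtVanish.nonempty_H_push_equiv i ((EtCoh.pull i).obj P) m
  exact eq.toEquiv.subsingleton

theorem subsingleton_H_devissage {d : ℕ} (ih : ∀ e, d = e + 1 → Vanish.{u} e) [IsNoetherian X]
    (hn : topologicalKrullDim ↥X ≤ (d : WithBot ℕ∞)) :
    ∀ T : Finset X, ∀ F : EtCoh.Ab X, IsUD F →
      (∀ (Ω : Type u) [Field Ω] [IsSepClosed Ω] (ξ : Spec (CommRingCat.of Ω) ⟶ X),
        IsMax (ξ default) → ξ default ∉ T → IsZero ((EtCoh.stalk ξ).obj F)) →
      ∀ q, d < q → Subsingleton (EtCoh.H X F q) := by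
  classical
  intro T
  induction T using Finset.induction with
  | empty =>
    intro F hUD h0 q hq
    exact subsingleton_H_genZero ih hn F hUD (fun Ω _ _ ξ hmax => h0 Ω ξ hmax (Finset.notMem_empty _)) q hq.le
  | @insert y T hy iht =>
    intro F hUD h0 q hq
    haveI : (EtCoh.push (X.fromSpecResidueField y)).IsRightAdjoint := (EtCoh.pullPushAdj _).isRightAdjoint
    haveI : (EtCoh.pull (X.fromSpecResidueField y)).IsLeftAdjoint := (EtCoh.pullPushAdj _).isLeftAdjoint
    haveI : (EtCoh.push (X.fromSpecResidueField y)).Additive := Functor.additive_of_preserves_binary_products _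
    haveI : (EtCoh.pull (X.fromSpecResidueField y)).Additive := Functor.additive_of_preserves_binary_products _
    have hA : IsUD (atPt y F) := hUD.map (EtCoh.pull (X.fromSpecResidueField y))
    have hPA : IsUD ((EtCoh.push (X.fromSpecResidueField y)).obj (atPt y F)) :=
      hA.map (EtCoh.push (X.fromSpecResidueField y))
    let φ := ptUnit y F
    obtain ⟨w, hS⟩ := shortExact_image φ
    let S₂ := ShortComplex.mk (Abelian.image.ι φ) (cokernel.π φ) (kernel.condition _)
    have hS₂ : S₂.ShortExact := ⟨ShortComplex.exact_of_f_is_kernel _ (kernelIsKernel _)⟩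
    haveI hK : Subsingleton (EtCoh.H X (kernel φ) q) := by
      refine iht _ (IsUD.kernel φ hUD hPA) (fun Ω _ _ ξ hmax hξ => ?_) q hq
      by_cases h : ξ default = y
      · exact (isZero_stalk_kernel_cokernel φ ξ (isIso_stalk_ptUnit y ξ h F)).1
      · haveI := AddCommGrpCat.subsingleton_of_isZero
          (h0 Ω ξ hmax (by rw [Finset.mem_insert, not_or]; exact ⟨h, hξ⟩))
        exact AddCommGrpCat.isZero_iff_subsingleton.2 (stalk_injective (kernel.ι φ) ξ).subsingleton
    obtain ⟨m, rfl⟩ : ∃ m, q = m + 1 := ⟨q - 1, by omega⟩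
    have hC : Subsingleton (EtCoh.H X (cokernel φ) m) := by
      refine subsingleton_H_genZero ih hn _ (IsUD.cokernel φ hUD hPA) (fun Ω _ _ ξ hmax => ?_) m (by omega)
      by_cases h : ξ default = y
      · exact (isZero_stalk_kernel_cokernel φ ξ (isIso_stalk_ptUnit y ξ h F)).2
      · haveI : Epi ((EtCoh.stalk ξ).map (cokernel.π φ)) :=
          (AddCommGrpCat.epi_iff_surjective _).2 ((epi_iff_ab _).1 inferInstance Ω ξ)
        exact IsZero.of_epi ((EtCoh.stalk ξ).map (cokernel.π φ))
          (isZero_stalk_push_point y ξ (fun hs => h (hmax y hs).symm) _)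
    have hI : Subsingleton (EtCoh.H X (Abelian.image φ) (m + 1)) := subsingleton_of_forall_eq 0 fun x => by
      obtain ⟨a, ha⟩ := Ext.covariant_sequence_exact₁ _ hS₂ x
        (@Subsingleton.elim _ (subsingleton_H_push_point y hA (m + 1) m.succ_pos) _ 0) rfl
      rw [← ha, @Subsingleton.elim _ hC a 0, Ext.zero_comp]
    refine subsingleton_of_forall_eq 0 fun x => ?_
    obtain ⟨a, ha⟩ := Ext.covariant_sequence_exact₂ _ hS x (@Subsingleton.elim _ hI _ 0)
    rw [← ha, @Subsingleton.elim _ hK a 0, Ext.zero_comp]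

theorem vanish : ∀ d, Vanish.{u} d := by
  intro d
  induction d with
  | zero =>
    intro X _ hn F hUD q hq
    obtain ⟨T, hT⟩ := CurveNoeth.exists_finset_maximal (X := X)
    exact subsingleton_H_devissage (fun e he => absurd he e.succ_ne_zero.symm) hn T F hUD
      (fun Ω _ _ ξ hmax hξ => absurd ((hT _).2 hmax) hξ) q hq
  | succ e ih =>
    intro X _ hn F hUD q hq
    obtain ⟨T, hT⟩ := CurveNoeth.exists_finset_maximal (X := X)
    exact subsingleton_H_devissage (fun e' he => (Nat.succ.inj he) ▸ ih) hn T F hUD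
      (fun Ω _ _ ξ hmax hξ => absurd ((hT _).2 hmax) hξ) q hq

end Groth.Agent.UDVanishLib
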